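import Mathlib.Algebra.Category.ModuleCat.Monoidal.Basic
import Mathlib.Algebra.Category.ModuleCat.Abelian
import Mathlib.Algebra.Homology.ShortComplex.ExactFunctor
import Mathlib.Algebra.Homology.ShortComplex.ModuleCat
import Mathlib.CategoryTheory.Linear.LinearFunctor
import Mathlib.LinearAlgebra.TensorProduct.RightExactness
import Mathlib.LinearAlgebra.Dimension.Free
import Mathlib.LinearAlgebra.FreeModule.Basic

/-!
# The canonical map `T(A) ⊗ M → T(M)` of a linear functor commuting with direct sums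
-/

universe u

open CategoryTheory CategoryTheory.Limits TensorProduct MonoidalCategory

namespace Groth.Agent.Lib.FlatCxW.Watts

variable {A : Type u} [CommRing A] (T : ModuleCat.{u} A ⥤ ModuleCat.{u} A) [T.Additive] [T.Linear A]

/-- `a ↦ a • x` -/
noncomputable abbrev θ (M : ModuleCat.{u} A) (x : M) : ModuleCat.of A A ⟶ M :=
  (ModuleCat.homLinearEquiv (S := A)).symm ((LinearMap.ringLmapEquivSelf A A M).symm x)

theorem θ_apply (M : ModuleCat.{u} A) (x : M) (a : A) : (θ M x).hom a = a • x := rfl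

theorem θ_comp {M N : ModuleCat.{u} A} (g : M ⟶ N) (x : M) : θ M x ≫ g = θ N (g x) := by
  ext
  show g ((1 : A) • x) = (1 : A) • g x
  rw [map_smul]

theorem θ_one (M : ModuleCat.{u} A) (g : ModuleCat.of A A ⟶ M) : θ M (g (1 : A)) = g := by
  ext
  show (1 : A) • g (1 : A) = g (1 : A)
  rw [one_smul]

/-- The canonical map. -/
noncomputable abbrev t (M : ModuleCat.{u} A) :
    TensorProduct A (T.obj (ModuleCat.of A A)) M →ₗ[A] T.obj M :=
  TensorProduct.lift (LinearMap.flip
        ((ModuleCat.homLinearEquiv (S := A)).toLinearMap ∘ₗ Functor.mapLinearMap A T ∘ₗ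
          (ModuleCat.homLinearEquiv (S := A)).symm.toLinearMap ∘ₗ
            (LinearMap.ringLmapEquivSelf A A M).symm.toLinearMap))

theorem t_tmul (M : ModuleCat.{u} A) (y : T.obj (ModuleCat.of A A)) (x : M) :
    t T M (y ⊗ₜ x) = (T.map (θ M x)).hom y := rfl

theorem t_natural {M N : ModuleCat.{u} A} (g : M ⟶ N) (z : T.obj (ModuleCat.of A A) ⊗[A] M) :
    t T N (g.hom.lTensor _ z) = (T.map g).hom (t T M z) := by
  induction z using TensorProduct.induction_on with
  | zero => simp only [map_zero]
  | tmul y x =>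
    rw [LinearMap.lTensor_tmul, t_tmul, t_tmul, ← θ_comp g x, T.map_comp]
    rfl
  | add a b ha hb => simp only [map_add, ha, hb]

theorem isColimit_basis {L : ModuleCat.{u} A} {ι : Type u} (b : Module.Basis ι A L) :
    Nonempty (IsColimit (Cofan.mk L fun i => θ L (b i))) := by
  refine ⟨Cofan.IsColimit.mk _ (fun s => ModuleCat.ofHom (b.constr A fun i => (s.inj i).hom (1 : A)))
    (fun s i => ?_) (fun s m hm => ?_)⟩
  · show θ L (b i) ≫ _ = s.inj i
    rw [θ_comp, ← θ_one _ (s.inj i)]
    congr 1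
    show b.constr A _ (b i) = _
    rw [b.constr_basis]
  · refine ModuleCat.hom_ext (b.ext fun i => ?_)
    show m.hom (b i) = b.constr A _ (b i)
    rw [b.constr_basis]
    have := hm i
    change θ L (b i) ≫ m = s.inj i at this
    rw [← this]
    show _ = m.hom ((1 : A) • b i)
    rw [one_smul]

/-- Jointly epimorphic images. -/
theorem surjective_of_cofan {ι : Type u} {X : ι → ModuleCat.{u} A} (c : Cofan X)
    (hc : IsColimit c) [PreservesColimitsOfShape (Discrete ι) T]
    (h : ∀ i, Function.Surjective (t T (X i))) : Function.Surjective (t T c.pt) := by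
  rw [← LinearMap.range_eq_top]
  have hT : IsColimit (T.mapCocone c) := isColimitOfPreserves T hc
  have : ModuleCat.ofHom (LinearMap.range (t T c.pt)).mkQ = (0 : T.obj c.pt ⟶ _) := by
    refine hT.hom_ext fun i => ModuleCat.hom_ext (LinearMap.ext fun y => ?_)
    obtain ⟨i⟩ := i
    obtain ⟨z, rfl⟩ := h i y
    show (LinearMap.range (t T c.pt)).mkQ ((T.map (c.inj i)).hom (t T (X i) z)) = 0
    rw [← t_natural T (c.inj i), Submodule.mkQ_apply, Submodule.Quotient.mk_eq_zero]
    exact ⟨_, rfl⟩
  rw [← Submodule.ker_mkQ (LinearMap.range (t T c.pt))]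
  exact LinearMap.ker_eq_top.2 (congrArg ModuleCat.Hom.hom this)

theorem t_self_surjective : Function.Surjective (t T (ModuleCat.of A A)) := fun y =>
  ⟨y ⊗ₜ (1 : A), by
    rw [t_tmul, show θ (ModuleCat.of A A) (1 : A) = 𝟙 _ from θ_one _ (𝟙 _), T.map_id]
    rfl⟩

variable [∀ J : Type u, PreservesColimitsOfShape (Discrete J) T]

theorem t_bijective_of_basis {L : ModuleCat.{u} A} {ι : Type u} (b : Module.Basis ι A L) :
    Function.Bijective (t T L) := by
  obtain ⟨hc⟩ := isColimit_basis b
  have hT : IsColimit (T.mapCocone (Cofan.mk L fun i => θ L (b i))) := isColimitOfPreserves T hc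
  refine ⟨?_, surjective_of_cofan T _ hc fun i => t_self_surjective T⟩
  let s : Cocone (Discrete.functor (fun _ : ι => ModuleCat.of A A) ⋙ T) :=
    { pt := ModuleCat.of A (T.obj (ModuleCat.of A A) ⊗[A] L)
      ι := Discrete.natTrans fun i =>
        ModuleCat.ofHom ((TensorProduct.mk A (T.obj (ModuleCat.of A A)) L).flip (b i.as)) }
  have key : (hT.desc s).hom ∘ₗ t T L = LinearMap.id := by
    refine TensorProduct.ext' fun y x => ?_
    refine LinearMap.congr_fun (b.ext (f₁ := (((hT.desc s).hom ∘ₗ t T L) ∘ₗ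
      TensorProduct.mk A _ L y)) (f₂ := TensorProduct.mk A _ L y) fun i => ?_) x
    exact congrArg (fun φ => φ.hom y) (hT.fac s ⟨i⟩)
  exact Function.LeftInverse.injective (g := (hT.desc s).hom) (LinearMap.congr_fun key)

theorem t_bijective_of_free (L : ModuleCat.{u} A) [Module.Free A L] :
    Function.Bijective (t T L) :=
  t_bijective_of_basis T (Module.Free.chooseBasis A L)

theorem t_bijective [PreservesFiniteColimits T] (M : ModuleCat.{u} A) :
    Function.Bijective (t T M) := by
  let p := Finsupp.linearCombination A (id : M → M)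
  have hp : Function.Surjective p := Finsupp.linearCombination_id_surjective A M
  let q := Finsupp.linearCombination A (id : LinearMap.ker p → LinearMap.ker p)
  have hq : Function.Surjective q := Finsupp.linearCombination_id_surjective A _
  let F₁ := ModuleCat.of A (LinearMap.ker p →₀ A)
  let F₀ := ModuleCat.of A (M →₀ A)
  let f : F₁ ⟶ F₀ := ModuleCat.ofHom ((LinearMap.ker p).subtype ∘ₗ q)
  let g : F₀ ⟶ M := ModuleCat.ofHom p
  have hfg : Function.Exact f.hom g.hom := fun x => ⟨fun hx => by
    obtain ⟨y, hy⟩ := hq ⟨x, hx⟩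
    exact ⟨y, congrArg Subtype.val hy⟩, by rintro ⟨y, rfl⟩; exact (q y).2⟩
  let S : ShortComplex (ModuleCat.{u} A) := ShortComplex.mk f g (by ext y; exact (q _).2)
  have hS : S.Exact ∧ Epi S.g :=
    ⟨(ShortComplex.ShortExact.moduleCat_exact_iff_function_exact S).2 hfg,
      (ModuleCat.epi_iff_surjective g).2 hp⟩
  have h31 : PreservesFiniteColimits T → ∀ (S : ShortComplex (ModuleCat.{u} A)),
      S.Exact ∧ Epi S.g → (S.map T).Exact ∧ Epi (T.map S.g) :=
    ((Functor.preservesFiniteColimits_tfae T).out 3 1).1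
  obtain ⟨hT₁, hT₂⟩ := h31 ‹_› S hS
  have hT₁ := (ShortComplex.ShortExact.moduleCat_exact_iff_function_exact _).1 hT₁
  have hT₂ := (ModuleCat.epi_iff_surjective _).1 hT₂
  have e₁ := t_bijective_of_free T F₁
  have e₀ := t_bijective_of_free T F₀
  refine ⟨(injective_iff_map_eq_zero _).2 fun z hz => ?_, fun y => ?_⟩
  · obtain ⟨w, rfl⟩ := LinearMap.lTensor_surjective (T.obj (ModuleCat.of A A)) hp z
    obtain ⟨v, hv⟩ := (hT₁ (t T F₀ w)).1 ((t_natural T g w).symm.trans hz)
    obtain ⟨v', rfl⟩ := e₁.2 v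
    have : f.hom.lTensor _ v' = w := e₀.1 ((t_natural T f v').trans hv)
    rw [← this, ← LinearMap.comp_apply, ← LinearMap.lTensor_comp, show p ∘ₗ f.hom = 0 from LinearMap.ext fun y => (q y).2,
      LinearMap.lTensor_zero, LinearMap.zero_apply]
  · obtain ⟨x, rfl⟩ := hT₂ y
    obtain ⟨w, rfl⟩ := e₀.2 x
    exact ⟨g.hom.lTensor _ w, t_natural T g w⟩

omit [∀ J : Type u, PreservesColimitsOfShape (Discrete J) T] in
theorem preservesFiniteColimits_of_halfExact
    (he : ∀ S : ShortComplex (ModuleCat.{u} A), S.ShortExact → (S.map T).Exact)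
    (hs : ∀ M : ModuleCat.{u} A, Function.Surjective (t T M)) : PreservesFiniteColimits T := by
  have h03 : (∀ (S : ShortComplex (ModuleCat.{u} A)), S.ShortExact → (S.map T).Exact ∧ Epi (T.map S.g)) →
      PreservesFiniteColimits T :=
    ((Functor.preservesFiniteColimits_tfae T).out 0 3).1
  refine h03 fun S hS => ⟨he S hS, ?_⟩
  rw [ModuleCat.epi_iff_surjective]
  intro y
  obtain ⟨z, rfl⟩ := hs _ y
  obtain ⟨w, rfl⟩ := LinearMap.lTensor_surjective (T.obj (ModuleCat.of A A))
    ((ModuleCat.epi_iff_surjective _).1 hS.epi_g) z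
  exact ⟨t T _ w, (t_natural T S.g w).symm⟩

omit [∀ J : Type u, PreservesColimitsOfShape (Discrete J) T] in
theorem preservesFiniteColimits_of_bijective
    (h : ∀ M : ModuleCat.{u} A, Function.Bijective (t T M)) : PreservesFiniteColimits T := by
  refine preservesFiniteColimits_of_halfExact T (fun S hS => ?_) fun M => (h M).2
  refine (ShortComplex.ShortExact.moduleCat_exact_iff_function_exact _).2 fun y => ⟨fun hy => ?_, ?_⟩
  · obtain ⟨z, rfl⟩ := (h S.X₂).2 y
    have hz : S.g.hom.lTensor _ z = 0 := (h S.X₃).1 ((t_natural T S.g z).trans (hy.trans (map_zero _).symm))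
    obtain ⟨w, hw⟩ := (_root_.lTensor_exact _
      ((ShortComplex.ShortExact.moduleCat_exact_iff_function_exact S).1 hS.exact)
      ((ModuleCat.epi_iff_surjective _).1 hS.epi_g) z).1 hz
    exact ⟨t T _ w, (t_natural T S.f w).symm.trans (congrArg (t T S.X₂) hw)⟩
  · rintro ⟨x, rfl⟩
    exact congrArg (fun φ => φ.hom x) (S.map T).zero

theorem preservesFiniteColimits_iff_bijective :
    PreservesFiniteColimits T ↔ ∀ M : ModuleCat.{u} A, Function.Bijective (t T M) :=
  ⟨fun _ => t_bijective T, preservesFiniteColimits_of_bijective T⟩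

/-- Watts. -/
noncomputable def natIso [PreservesFiniteColimits T] :
    T ≅ tensorLeft (T.obj (ModuleCat.of A A)) :=
  (NatIso.ofComponents (fun M => (LinearEquiv.ofBijective (t T M) (t_bijective T M)).toModuleIso)
    (fun {M N} g => by ext : 1; exact LinearMap.ext fun z => t_natural T g z)).symm

end Groth.Agent.Lib.FlatCxW.Watts
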