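import Mathlib.Algebra.Category.ModuleCat.FilteredColimits
import Mathlib.CategoryTheory.Linear.LinearFunctor
import Mathlib.CategoryTheory.Filtered.Basic
import Mathlib.CategoryTheory.Limits.ConcreteCategory.Basic
import Mathlib.CategoryTheory.ConcreteCategory.Elementwise
import Mathlib.Algebra.Module.LocalizedModule.Basic
import Mathlib.Algebra.Category.ModuleCat.Abelian

/-!
# A localization as a filtered colimit; linear functors preserving filtered colimits
-/

universe u

open CategoryTheory CategoryTheory.Limits

namespace Groth.Agent.Lib.FlatCxW.LocColim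

variable {A : Type u} [CommRing A] (S : Submonoid A)

/-- The index category: an arrow `s ⟶ s'` is `c ∈ S` with `s * c = s'`. -/
structure Idx : Type u where
  /-- the element -/
  val : S

instance : SmallCategory (Idx S) where
  Hom s s' := {c : S // s.val * c = s'.val}
  id s := ⟨1, mul_one _⟩
  comp {s s' s''} c d := ⟨c.1 * d.1, by rw [← mul_assoc, c.2, d.2]⟩
  id_comp c := Subtype.ext (one_mul _)
  comp_id c := Subtype.ext (mul_one _)
  assoc c d e := Subtype.ext (mul_assoc _ _ _)

/-- An arrow. -/
def mkHom {s s' : Idx S} (c : S) (h : s.val * c = s'.val) : s ⟶ s' := ⟨c, h⟩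

instance : IsFiltered (Idx S) where
  nonempty := ⟨⟨1⟩⟩
  cocone_objs s s' := ⟨⟨s.val * s'.val⟩, mkHom S s'.val rfl, mkHom S s.val (mul_comm _ _), trivial⟩
  cocone_maps {s s'} c d := ⟨⟨s'.val * s.val⟩, mkHom S s.val rfl, Subtype.ext (by
    show c.1 * s.val = d.1 * s.val
    rw [mul_comm, c.2, mul_comm, d.2])⟩

variable (M : ModuleCat.{u} A)

/-- The diagram of multiplications. -/
noncomputable def diag : Idx S ⥤ ModuleCat.{u} A where
  obj _ := M
  map c := ModuleCat.ofHom ((c.1 : A) • LinearMap.id)
  map_id _ := by ext x; exact one_smul A x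
  map_comp c d := by
    ext x
    show ((c.1 * d.1 : S) : A) • x = (d.1 : A) • (c.1 : A) • x
    rw [Submonoid.coe_mul, mul_comm, mul_smul]

/-- `x ↦ x / s` -/
noncomputable def ι (s : S) : M →ₗ[A] LocalizedModule S M where
  toFun x := LocalizedModule.mk x s
  map_add' x y := by
    rw [IsLocalizedModule.mk_eq_mk', IsLocalizedModule.mk_eq_mk', IsLocalizedModule.mk_eq_mk',
      IsLocalizedModule.mk'_add]
  map_smul' a x := (LocalizedModule.smul'_mk a x s).symm

theorem ι_smul (s c : S) (x : M) : ι S M (s * c) ((c : A) • x) = ι S M s x := by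
  show LocalizedModule.mk _ _ = LocalizedModule.mk _ _
  rw [mul_comm, ← Submonoid.smul_def]
  exact LocalizedModule.mk_cancel_common_left c s x

/-- The cocone. -/
noncomputable def cocone : Cocone (diag S M) where
  pt := ModuleCat.of A (LocalizedModule S M)
  ι :=
    { app := fun s => ModuleCat.ofHom (ι S M s.val)
      naturality := fun s s' c => by
        ext x
        exact (congrArg (fun v => ι S M v ((c.1 : A) • (show M from x))) c.2).symm.trans
          (ι_smul S M s.val c.1 x) }

/-- It is a colimit. -/
noncomputable def isColimit : IsColimit (cocone S M) where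
  desc t :=
    let φ : S → M →ₗ[A] t.pt := fun s => (t.ι.app ⟨s⟩).hom
    have hφ : ∀ (s c : S) (x : M), φ (s * c) ((c : A) • x) = φ s x := fun s c x =>
      congrArg (fun ψ => ψ.hom x) (t.w (mkHom S (s := ⟨s⟩) (s' := ⟨s * c⟩) c rfl))
    have hmk : ∀ p p' : M × S, (∃ v : S, v • p'.2 • p.1 = v • p.2 • p'.1) → φ p.2 p.1 = φ p'.2 p'.1 :=
      fun ⟨x, s⟩ ⟨y, s'⟩ ⟨v, hv⟩ => by
        rw [← hφ s (v * s') x, ← hφ s' (v * s) y,
          show s * (v * s') = s' * (v * s) by rw [mul_left_comm s, mul_left_comm s', mul_comm s s']]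
        refine congrArg (φ _) ?_
        simp only [Submonoid.coe_mul, mul_smul]
        exact hv
    ModuleCat.ofHom
      { toFun := fun z => (LocalizedModule.liftOn (S := S) (M := M) z (fun p => φ p.2 p.1) hmk)
        map_add' := fun z z' => by
          induction z, z' using LocalizedModule.induction_on₂ with
          | h x y s s' =>
            rw [LocalizedModule.mk_add_mk]
            show φ (s * s') (s' • x + s • y) = φ s x + φ s' y
            rw [map_add]
            refine congrArg₂ (· + ·) (hφ s s' x) ?_
            rw [mul_comm s s']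
            exact hφ s' s y
        map_smul' := fun a z => by
          induction z using LocalizedModule.induction_on with
          | h x s =>
            rw [LocalizedModule.smul'_mk]
            show φ s (a • x) = a • φ s x
            rw [map_smul] }
  fac t s := ModuleCat.hom_ext (LinearMap.ext fun x => rfl)
  uniq t m hm := ModuleCat.hom_ext (LinearMap.ext fun z => by
    induction z using LocalizedModule.induction_on with
    | h x s => exact congrArg (fun ψ => ψ.hom x) (hm ⟨s⟩))

variable (T : ModuleCat.{u} A ⥤ ModuleCat.{u} A) [T.Additive] [T.Linear A]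

omit [T.Additive] in
theorem map_smul_id (a : A) (y : T.obj M) :
    (T.map (a • 𝟙 M)).hom y = a • y := by
  rw [T.map_smul, T.map_id]
  rfl

omit [T.Additive] in
theorem map_smul_apply {N : ModuleCat.{u} A} (a : A) (g : M ⟶ N) (y : T.obj M) :
    (T.map (a • g)).hom y = a • (T.map g).hom y := by
  rw [T.map_smul]
  rfl

/-- `T` commutes with localisation. -/
theorem isLocalizedModule [PreservesColimitsOfShape (Idx S) T] :
    IsLocalizedModule S (T.map (ModuleCat.ofHom (LocalizedModule.mkLinearMap S M) :
      M ⟶ ModuleCat.of A (LocalizedModule S M))).hom := by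
  have hc := isColimitOfPreserves T (isColimit S M)
  have h1 : (ModuleCat.ofHom (LocalizedModule.mkLinearMap S M) :
      M ⟶ ModuleCat.of A (LocalizedModule S M)) = (cocone S M).ι.app ⟨1⟩ := rfl
  refine ⟨fun c => ?_, fun y => ?_, fun {x x'} h => ?_⟩
  · obtain ⟨v, hv⟩ := IsLocalizedModule.map_units (LocalizedModule.mkLinearMap S M) c
    let i : ModuleCat.of A (LocalizedModule S M) ⟶ ModuleCat.of A (LocalizedModule S M) :=
      ModuleCat.ofHom (↑v⁻¹ : Module.End A (LocalizedModule S M))
    let e : ModuleCat.of A (LocalizedModule S M) ⟶ ModuleCat.of A (LocalizedModule S M) :=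
      (c : A) • 𝟙 _
    have he : e.hom = (v : Module.End A (LocalizedModule S M)) := by rw [hv]; rfl
    have hei : e ≫ i = 𝟙 _ := ModuleCat.hom_ext (by
      show i.hom ∘ₗ e.hom = LinearMap.id
      rw [he]; exact v.inv_mul)
    have hie : i ≫ e = 𝟙 _ := ModuleCat.hom_ext (by
      show e.hom ∘ₗ i.hom = LinearMap.id
      rw [he]; exact v.mul_inv)
    refine (Module.End.isUnit_iff _).2 ⟨fun y y' h => ?_, fun y => ⟨(T.map i).hom y, ?_⟩⟩
    · have h1 : ∀ z, (T.map i).hom ((c : A) • z) = z := fun z => by
        rw [← map_smul_id _ T (c : A) z, ← ConcreteCategory.comp_apply, ← T.map_comp]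
        show (T.map (e ≫ i)).hom z = z
        rw [hei, T.map_id]
        rfl
      rw [← h1 y, ← h1 y']
      exact congrArg (T.map i).hom h
    · show (c : A) • (T.map i).hom y = y
      rw [← map_smul_id _ T (c : A), ← ConcreteCategory.comp_apply, ← T.map_comp]
      show (T.map (i ≫ e)).hom y = y
      rw [hie, T.map_id]
      rfl
  · obtain ⟨s, x, hx⟩ := Concrete.isColimit_exists_rep _ hc y
    refine ⟨⟨x, s.val⟩, ?_⟩
    rw [← hx, h1]
    show (s.val : A) • (T.map ((cocone S M).ι.app s)).hom x = (T.map ((cocone S M).ι.app ⟨1⟩)).hom x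
    refine (map_smul_apply M T (s.val : A) ((cocone S M).ι.app s) x).symm.trans ?_
    have e : (s.val : A) • (cocone S M).ι.app s = (cocone S M).ι.app ⟨1⟩ := by
      ext z
      show (s.val : A) • ι S M s.val z = ι S M 1 z
      refine (map_smul (ι S M s.val) _ _).symm.trans ?_
      exact (congrArg (fun v => ι S M v ((s.val : A) • (show M from z))) (one_mul s.val).symm).trans
        (ι_smul S M 1 s.val z)
    exact congrArg (fun g : M ⟶ ModuleCat.of A (LocalizedModule S M) => (T.map g).hom x) e
  · rw [h1] at h
    obtain ⟨s, f, g, hfg⟩ := (Concrete.isColimit_rep_eq_iff_exists (diag S M ⋙ T) hc x x').1 h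
    refine ⟨s.val, ?_⟩
    have e : ∀ (f : (⟨1⟩ : Idx S) ⟶ s) (z : T.obj M),
        ((diag S M ⋙ T).map f).hom z = s.val • z := fun f z => by
      have hf : f.1 = s.val := (one_mul f.1).symm.trans f.2
      have : (diag S M).map f = (f.1 : A) • 𝟙 M := rfl
      show (T.map ((diag S M).map f)).hom z = _
      rw [this, hf]
      exact map_smul_id M T _ z
    rw [← e f x, ← e g x']
    exact hfg

end Groth.Agent.Lib.FlatCxW.LocColim
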